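import Groth.Agent.Lib.RegLoc.QuasiRegular
import Groth.Agent.Lib.CMFree.Regular
import Mathlib.RingTheory.DiscreteValuationRing.Basic
import Mathlib.RingTheory.Localization.FractionRing
import Mathlib.RingTheory.LocalRing.ResidueField.Defs
import Mathlib.RingTheory.AlgebraicIndependent.Basic
import Mathlib.FieldTheory.IntermediateField.Adjoin.Basic

/-!
# The order valuation of a regular local ring

For a regular local ring `A` that is not a field, the elements `a / b` with `ord b ≤ ord a` form a
discrete valuation ring whose residue field is purely transcendental over that of `A`.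
-/

set_option autoImplicit false

noncomputable section

open IsLocalRing MvPolynomial

namespace GrothLib.OrdVal

universe u

variable {A : Type u} [CommRing A] [IsRegularLocalRing A]

instance : IsDomain A := GrothLib.CMFree.isDomain_of_isRegularLocalRing A

theorem map_residue_eq_zero {d : ℕ} {x : Fin d → A} (hd : (maximalIdeal A).spanFinrank = d)
    (hx : Ideal.span (Set.range x) = maximalIdeal A) {n : ℕ} {F : MvPolynomial (Fin d) A}
    (hF : F.IsHomogeneous n) (h : eval x F ∈ maximalIdeal A ^ (n + 1)) :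
    MvPolynomial.map (residue A) F = 0 := by
  have h1 := GrothLib.RegLoc.map_eq_zero_of_eval_mem_pow_succ
    (GrothLib.RegLoc.regularFromRight_of_span_eq x hd hx) hF (by rwa [hx])
  refine MvPolynomial.ext _ _ fun m => ?_
  have h2 := congrArg (coeff m) h1
  rw [coeff_map, coeff_zero, Ideal.Quotient.eq_zero_iff_mem, hx] at h2
  rw [coeff_map, coeff_zero, residue_eq_zero_iff]
  exact h2

theorem not_mem_succ_mul {i j : ℕ} {a b : A} (ha : a ∈ maximalIdeal A ^ i)
    (ha' : a ∉ maximalIdeal A ^ (i + 1)) (hb : b ∈ maximalIdeal A ^ j)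
    (hb' : b ∉ maximalIdeal A ^ (j + 1)) : a * b ∉ maximalIdeal A ^ (i + j + 1) := by
  obtain ⟨x, hx⟩ := GrothLib.RegLoc.exists_generators_fin (maximalIdeal A)
  have hpow : ∀ n, maximalIdeal A ^ n = Ideal.span (Set.range x) ^ n := fun n => by rw [hx]
  intro h
  rw [hpow] at ha hb
  obtain ⟨F, hF, rfl⟩ := (Ideal.mem_span_pow_iff_exists_isHomogeneous x _).1 ha
  obtain ⟨G, hG, rfl⟩ := (Ideal.mem_span_pow_iff_exists_isHomogeneous x _).1 hb
  rw [← map_mul] at h
  have h0 := map_residue_eq_zero rfl hx (hF.mul hG) h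
  rw [map_mul] at h0
  have key : ∀ (n : ℕ) (H : MvPolynomial (Fin (maximalIdeal A).spanFinrank) A), H.IsHomogeneous n →
      MvPolynomial.map (residue A) H = 0 → eval x H ∈ maximalIdeal A ^ (n + 1) := by
    intro n H hH h
    rw [pow_succ', hpow n]
    exact GrothLib.RegLoc.eval_mem_mul_pow x hH fun m =>
      (residue_eq_zero_iff _).mp (by rw [← coeff_map, h, coeff_zero])
  rcases mul_eq_zero.mp h0 with h1 | h1
  · exact ha' (key i F hF h1)
  · exact hb' (key j G hG h1)

theorem exists_order {a : A} (ha : a ≠ 0) :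
    ∃ n, a ∈ maximalIdeal A ^ n ∧ a ∉ maximalIdeal A ^ (n + 1) := by
  by_contra hc
  push Not at hc
  have hall : ∀ n, a ∈ maximalIdeal A ^ n := by
    intro n
    induction n with
    | zero => simp
    | succ n ih => exact hc n ih
  have : a ∈ ⨅ i, maximalIdeal A ^ i := (Submodule.mem_iInf _).mpr hall
  rw [Ideal.iInf_pow_eq_bot_of_isLocalRing _ (maximalIdeal.isMaximal A).ne_top] at this
  exact ha this

theorem one_notMem : (1 : A) ∉ maximalIdeal A ^ (0 + 1) := by
  rw [zero_add, pow_one]
  exact fun h => (maximalIdeal.isMaximal A).ne_top ((Ideal.eq_top_iff_one _).mpr h)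

variable (A) in
/-- The valuation ring of the order function. -/
def ring : Subalgebra A (FractionRing A) where
  carrier := {z | ∃ (n : ℕ) (a b : A), a ∈ maximalIdeal A ^ n ∧ b ∈ maximalIdeal A ^ n ∧
    b ∉ maximalIdeal A ^ (n + 1) ∧ z * algebraMap A _ b = algebraMap A _ a}
  algebraMap_mem' a := ⟨0, a, 1, by simp, by simp, one_notMem, by rw [map_one, mul_one]⟩
  mul_mem' := by
    rintro z w ⟨n, a, b, ha, hb, hb', e⟩ ⟨m, c, e', hc, he, he', f⟩
    refine ⟨n + m, a * c, b * e', ?_, ?_, not_mem_succ_mul hb hb' he he', ?_⟩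
    · rw [pow_add]; exact Ideal.mul_mem_mul ha hc
    · rw [pow_add]; exact Ideal.mul_mem_mul hb he
    · rw [map_mul, map_mul, ← e, ← f]; ring
  add_mem' := by
    rintro z w ⟨n, a, b, ha, hb, hb', e⟩ ⟨m, c, e', hc, he, he', f⟩
    refine ⟨n + m, a * e' + b * c, b * e', ?_, ?_, not_mem_succ_mul hb hb' he he', ?_⟩
    · rw [pow_add]; exact add_mem (Ideal.mul_mem_mul ha he) (Ideal.mul_mem_mul hb hc)
    · rw [pow_add]; exact Ideal.mul_mem_mul hb he
    · rw [map_add, map_mul, map_mul, map_mul, ← e, ← f]; ring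

theorem algebraMap_ne_zero {n : ℕ} {b : A} (hb' : b ∉ maximalIdeal A ^ (n + 1)) :
    algebraMap A (FractionRing A) b ≠ 0 :=
  (map_ne_zero_iff _ (IsFractionRing.injective A (FractionRing A))).mpr fun h => hb' (h ▸ zero_mem _)

theorem isUnit_iff {z : ring A} {n : ℕ} {a b : A} (ha : a ∈ maximalIdeal A ^ n)
    (hb : b ∈ maximalIdeal A ^ n) (hb' : b ∉ maximalIdeal A ^ (n + 1))
    (e : (z : FractionRing A) * algebraMap A _ b = algebraMap A _ a) :
    IsUnit z ↔ a ∉ maximalIdeal A ^ (n + 1) := by
  constructor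
  · intro hz ha'
    obtain ⟨w, hw⟩ := hz.exists_right_inv
    obtain ⟨m, c, e', hc, he, he', f⟩ := w.2
    have h1 : (z : FractionRing A) * w = 1 := congrArg Subtype.val hw
    have h2 : a * c = b * e' := IsFractionRing.injective A (FractionRing A) (by
      rw [map_mul, map_mul, ← e, ← f]
      linear_combination (algebraMap A (FractionRing A) b * algebraMap A (FractionRing A) e') * h1)
    refine not_mem_succ_mul hb hb' he he' ?_
    rw [← h2, show n + m + 1 = (n + 1) + m by ring, pow_add]
    exact Ideal.mul_mem_mul ha' hc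
  · intro ha'
    have hb0 := algebraMap_ne_zero hb'
    have ha0 := algebraMap_ne_zero ha'
    refine IsUnit.of_mul_eq_one ⟨(z : FractionRing A)⁻¹, n, b, a, hb, ha, ha', ?_⟩ (Subtype.ext ?_)
    · have hz : (z : FractionRing A) ≠ 0 := fun h => ha0 (by rw [← e, h, zero_mul])
      rw [← e, ← mul_assoc, inv_mul_cancel₀ hz, one_mul]
    · have hz : (z : FractionRing A) ≠ 0 := fun h => ha0 (by rw [← e, h, zero_mul])
      exact mul_inv_cancel₀ hz

instance : IsLocalRing (ring A) :=
  IsLocalRing.of_nonunits_add fun z w hz hw => by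
    obtain ⟨n, a, b, ha, hb, hb', e⟩ := z.2
    obtain ⟨m, c, e', hc, he, he', f⟩ := w.2
    rw [mem_nonunits_iff, isUnit_iff ha hb hb' e, not_not] at hz
    rw [mem_nonunits_iff, isUnit_iff hc he he' f, not_not] at hw
    rw [mem_nonunits_iff, isUnit_iff (z := z + w) (n := n + m) (a := a * e' + b * c) (b := b * e')
      ?_ ?_ (not_mem_succ_mul hb hb' he he') ?_, not_not]
    · refine add_mem ?_ ?_
      · rw [show n + m + 1 = (n + 1) + m by ring, pow_add]; exact Ideal.mul_mem_mul hz he
      · rw [show n + m + 1 = n + (m + 1) by ring, pow_add]; exact Ideal.mul_mem_mul hb hw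
    · rw [pow_add]; exact add_mem (Ideal.mul_mem_mul ha he) (Ideal.mul_mem_mul hb hc)
    · rw [pow_add]; exact Ideal.mul_mem_mul hb he
    · show ((z : FractionRing A) + w) * _ = _
      rw [map_add, map_mul, map_mul, map_mul, ← e, ← f]; ring

theorem algebraMap_mem_maximalIdeal (a : A) :
    algebraMap A (ring A) a ∈ maximalIdeal (ring A) ↔ a ∈ maximalIdeal A := by
  rw [IsLocalRing.mem_maximalIdeal, mem_nonunits_iff,
    isUnit_iff (n := 0) (a := a) (b := 1) (by simp) (by simp) one_notMem
      (by rw [map_one, mul_one]; rfl), not_not, zero_add, pow_one]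

instance : IsFractionRing (ring A) (FractionRing A) := by
  have : FaithfulSMul (ring A) (FractionRing A) :=
    (faithfulSMul_iff_algebraMap_injective _ _).mpr Subtype.val_injective
  refine IsFractionRing.of_field _ _ fun z => ?_
  obtain ⟨a, b, -, h⟩ := IsFractionRing.div_surjective (A := A) z
  exact ⟨algebraMap A (ring A) a, algebraMap A (ring A) b, h.symm⟩

variable {e : ℕ} (x : Fin (e + 1) → A)

theorem x_zero_notMem (hd : (maximalIdeal A).spanFinrank = e + 1)
    (hx : Ideal.span (Set.range x) = maximalIdeal A) : x 0 ∉ maximalIdeal A ^ (1 + 1) := by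
  intro h
  have h1 := map_residue_eq_zero hd hx (isHomogeneous_X A (0 : Fin (e + 1))) (by rwa [eval_X])
  rw [map_X] at h1
  exact X_ne_zero _ h1

theorem x_mem (hx : Ideal.span (Set.range x) = maximalIdeal A) (i : Fin (e + 1)) :
    x i ∈ maximalIdeal A := hx ▸ Ideal.subset_span ⟨i, rfl⟩

theorem pow_notMem {a : A} (ha : a ∈ maximalIdeal A) (ha' : a ∉ maximalIdeal A ^ (1 + 1)) :
    ∀ n : ℕ, a ^ n ∉ maximalIdeal A ^ (n + 1) := by
  intro n
  induction n with
  | zero => rw [pow_zero]; exact one_notMem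
  | succ n ih =>
    rw [pow_succ a n]
    exact not_mem_succ_mul (Ideal.pow_mem_pow ha n) ih (by rwa [pow_one]) ha'

theorem isDiscreteValuationRing (hd : (maximalIdeal A).spanFinrank = e + 1)
    (hx : Ideal.span (Set.range x) = maximalIdeal A) : IsDiscreteValuationRing (ring A) := by
  have h0 := x_mem x hx 0
  have h0' := x_zero_notMem x hd hx
  let ϖ : ring A := algebraMap A (ring A) (x 0)
  have key : ∀ z : ring A, z ≠ 0 → ∃ k : ℕ, Associated (ϖ ^ k) z ∧
      ∀ (n : ℕ) (a b : A), a ∈ maximalIdeal A ^ n → b ∈ maximalIdeal A ^ n →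
        b ∉ maximalIdeal A ^ (n + 1) → (z : FractionRing A) * algebraMap A _ b = algebraMap A _ a →
        a ∈ maximalIdeal A ^ (n + k) := by
    intro z hz
    obtain ⟨n, a, b, ha, hb, hb', he⟩ := z.2
    have ha0 : a ≠ 0 := fun h => by
      rw [h, map_zero, mul_eq_zero] at he
      exact he.elim (fun h => hz (Subtype.ext h)) (algebraMap_ne_zero hb')
    obtain ⟨N, hN, hN'⟩ := exists_order ha0
    obtain ⟨k, rfl⟩ : ∃ k, N = n + k := ⟨N - n, (Nat.add_sub_cancel' (by
      by_contra hlt
      exact hN' (Ideal.pow_le_pow_right (by omega) ha))).symm⟩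
    have hk : x 0 ^ k * b ∈ maximalIdeal A ^ (n + k) := by
      rw [add_comm, pow_add]; exact Ideal.mul_mem_mul (Ideal.pow_mem_pow h0 k) hb
    have hk' : x 0 ^ k * b ∉ maximalIdeal A ^ (n + k + 1) := by
      rw [add_comm n k]
      exact not_mem_succ_mul (Ideal.pow_mem_pow h0 k) (pow_notMem h0 h0' k) hb hb'
    let u : ring A := ⟨algebraMap A _ a / algebraMap A _ (x 0 ^ k * b),
      n + k, a, x 0 ^ k * b, hN, hk, hk', div_mul_cancel₀ _ (algebraMap_ne_zero hk')⟩
    have hu : IsUnit u := (isUnit_iff hN hk hk' (div_mul_cancel₀ _ (algebraMap_ne_zero hk'))).mpr hN'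
    refine ⟨k, ⟨hu.unit, Subtype.ext ?_⟩, fun m a' b' _ hb₁ hb₂ he' => ?_⟩
    · show algebraMap A (FractionRing A) (x 0) ^ k *
        (algebraMap A _ a / algebraMap A _ (x 0 ^ k * b)) = z
      have h1 := algebraMap_ne_zero hb'
      have h2 : algebraMap A (FractionRing A) (x 0) ^ k ≠ 0 := by
        rw [← map_pow]; exact algebraMap_ne_zero (pow_notMem h0 h0' k)
      rw [map_mul, map_pow, ← he]
      field_simp
    · have h3 : a' * b = a * b' := IsFractionRing.injective A (FractionRing A) (by
        rw [map_mul, map_mul, ← he, ← he']; ring)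
      by_contra hc
      have ha1 : a' ≠ 0 := fun h => hc (h ▸ zero_mem _)
      obtain ⟨p, hp, hp'⟩ := exists_order ha1
      have hpk : p < m + k := lt_of_not_ge fun h => hc (Ideal.pow_le_pow_right h hp)
      refine not_mem_succ_mul hp hp' hb hb' ?_
      rw [h3]
      refine Ideal.pow_le_pow_right (by omega : p + n + 1 ≤ (n + k) + m) ?_
      rw [pow_add]
      exact Ideal.mul_mem_mul hN hb₁
  have hϖ : ¬ IsUnit ϖ := by
    rw [isUnit_iff (n := 0) (a := x 0) (b := 1) (by simp) (by simp) one_notMem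
      (by rw [map_one, mul_one]; rfl), not_not, zero_add, pow_one]
    exact h0
  refine IsDiscreteValuationRing.ofHasUnitMulPowIrreducibleFactorization
    ⟨ϖ, ⟨hϖ, fun p q hpq => ?_⟩, fun {z} hz => (key z hz).imp fun k h => h.1⟩
  by_contra hc
  push Not at hc
  have hϖ0 : ϖ ≠ 0 := fun h => algebraMap_ne_zero h0' (congrArg Subtype.val h)
  have hp0 : p ≠ 0 := fun h => hϖ0 (by rw [hpq, h, zero_mul])
  have hq0 : q ≠ 0 := fun h => hϖ0 (by rw [hpq, h, mul_zero])
  obtain ⟨i, hi, -⟩ := key p hp0
  obtain ⟨j, hj, -⟩ := key q hq0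
  obtain ⟨k, -, hk⟩ := key ϖ hϖ0
  have hi0 : i ≠ 0 := fun h => hc.1 (by
    rw [h, pow_zero] at hi; exact hi.isUnit isUnit_one)
  have hj0 : j ≠ 0 := fun h => hc.2 (by
    rw [h, pow_zero] at hj; exact hj.isUnit isUnit_one)
  have hdvd : ϖ ^ 2 ∣ ϖ := by
    refine (pow_dvd_pow ϖ (show 2 ≤ i + j by omega)).trans ?_
    rw [pow_add]
    exact ((hi.mul_mul hj).dvd).trans hpq.symm.dvd
  obtain ⟨w, hw⟩ := hdvd
  have : (1 : ring A) = ϖ * w := mul_left_cancel₀ hϖ0 (by rw [mul_one, ← mul_assoc, ← pow_two, ← hw])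
  exact hϖ (IsUnit.of_mul_eq_one w this.symm)

section Residue

variable (hd : (maximalIdeal A).spanFinrank = e + 1) (hx : Ideal.span (Set.range x) = maximalIdeal A)

/-- The elements `x (j + 1) / x 0`. -/
def ratio (j : Fin e) : ring A :=
  ⟨algebraMap A _ (x j.succ) / algebraMap A _ (x 0), 1, x j.succ, x 0,
    by rw [pow_one]; exact x_mem x hx _, by rw [pow_one]; exact x_mem x hx _,
    x_zero_notMem x hd hx, div_mul_cancel₀ _ (algebraMap_ne_zero (x_zero_notMem x hd hx))⟩

theorem mul_eval_ratio {n : ℕ} {F : MvPolynomial (Fin (e + 1)) A} (hF : F.IsHomogeneous n) :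
    (aeval (Fin.cons 1 (ratio x hd hx)) F : ring A) * algebraMap A (ring A) (x 0 ^ n) =
      algebraMap A (ring A) (eval x F) := by
  have h0 := algebraMap_ne_zero (x_zero_notMem x hd hx)
  have hr : ∀ i, (Fin.cons 1 (ratio x hd hx) : Fin (e + 1) → ring A) i * algebraMap A (ring A) (x 0) =
      algebraMap A (ring A) (x i) := by
    intro i
    induction i using Fin.cases with
    | zero => rw [Fin.cons_zero, one_mul]
    | succ j => rw [Fin.cons_succ]; exact Subtype.ext (div_mul_cancel₀ _ h0)
  rw [F.as_sum, map_sum, map_sum, map_sum, Finset.sum_mul]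
  refine Finset.sum_congr rfl fun m hm => ?_
  rw [aeval_monomial, eval_monomial, map_mul, map_finsuppProd, Finsupp.prod_fintype _ _ (by simp),
    Finsupp.prod_fintype _ _ (by simp)]
  have hdeg : ∑ i, m i = n := by
    rw [← Finsupp.degree_eq_sum, Finsupp.degree_eq_weight_one]
    exact hF (mem_support_iff.mp hm)
  rw [mul_assoc, map_pow, ← hdeg, ← Finset.prod_pow_eq_pow_sum, ← Finset.prod_mul_distrib]
  congr 1
  refine Finset.prod_congr rfl fun i _ => ?_
  rw [← mul_pow, hr, map_pow]

theorem isUnit_eval_ratio_iff {n : ℕ} {F : MvPolynomial (Fin (e + 1)) A} (hF : F.IsHomogeneous n) :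
    IsUnit (aeval (Fin.cons 1 (ratio x hd hx)) F : ring A) ↔ eval x F ∉ maximalIdeal A ^ (n + 1) :=
  isUnit_iff (by rw [← hx]; exact (Ideal.mem_span_pow_iff_exists_isHomogeneous x _).2 ⟨F, hF, rfl⟩)
    (Ideal.pow_mem_pow (x_mem x hx 0) n)
    (pow_notMem (x_mem x hx 0) (x_zero_notMem x hd hx) n) (congrArg Subtype.val (mul_eval_ratio x hd hx hF))

/-- The map of residue fields. -/
def resMap : ResidueField A →+* ResidueField (ring A) :=
  Ideal.Quotient.lift _ ((residue (ring A)).comp (algebraMap A (ring A))) fun a ha =>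
    (residue_eq_zero_iff _).mpr ((algebraMap_mem_maximalIdeal a).mpr ha)

theorem residue_aeval {σ : Type*} (s : σ → ring A) (P : MvPolynomial σ A) :
    residue (ring A) (aeval s P) =
      eval₂ resMap (fun i => residue (ring A) (s i)) (MvPolynomial.map (residue A) P) := by
  rw [aeval_def, eval₂_map]
  exact map_eval₂Hom (algebraMap A (ring A)) s (residue (ring A)) P

theorem algebraicIndependent_ratio :
    letI := (resMap (A := A)).toAlgebra
    AlgebraicIndependent (ResidueField A)
      fun j : ULift.{u} (Fin e) => residue (ring A) (ratio x hd hx j.down) := by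
  let _ := (resMap (A := A)).toAlgebra
  refine AlgebraicIndependent.comp (x := fun j : Fin e => residue (ring A) (ratio x hd hx j)) ?_
    ULift.down ULift.down_injective
  rw [algebraicIndependent_iff]
  intro p hp
  obtain ⟨P, rfl⟩ := MvPolynomial.map_surjective (residue A) residue_surjective p
  set N := P.totalDegree
  let F : MvPolynomial (Fin (e + 1)) A :=
    ∑ m ∈ P.support, monomial (Finsupp.cons (N - m.degree) m) (coeff m P)
  have hN : ∀ m ∈ P.support, m.degree ≤ N := fun m hm => by
    have := le_totalDegree hm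
    rwa [Finsupp.degree_apply]
  have hF : F.IsHomogeneous N := IsHomogeneous.sum _ _ _ fun m hm => isHomogeneous_monomial _ (by
    rw [Finsupp.degree_eq_sum, Fin.sum_univ_succ, Finsupp.cons_zero]
    simp only [Finsupp.cons_succ]
    rw [← Finsupp.degree_eq_sum]
    exact Nat.sub_add_cancel (hN m hm))
  have hFP : (aeval (Fin.cons 1 (ratio x hd hx)) F : ring A) = aeval (ratio x hd hx) P := by
    conv_rhs => rw [P.as_sum]
    simp only [F, map_sum]
    refine Finset.sum_congr rfl fun m _ => ?_
    rw [aeval_monomial, aeval_monomial, Finsupp.prod_fintype _ _ (by simp),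
      Finsupp.prod_fintype _ _ (by simp), Fin.prod_univ_succ]
    simp
  have hres : residue (ring A) (aeval (Fin.cons 1 (ratio x hd hx)) F : ring A) = 0 := by
    rw [hFP, residue_aeval]
    exact hp
  have hmem : eval x F ∈ maximalIdeal A ^ (N + 1) := by
    by_contra h
    exact (residue_ne_zero_iff_isUnit _).mpr ((isUnit_eval_ratio_iff x hd hx hF).mpr h) hres
  have h0 := map_residue_eq_zero hd hx hF hmem
  refine MvPolynomial.ext _ _ fun m => ?_
  rw [coeff_map, coeff_zero]
  by_cases hm : m ∈ P.support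
  · have h1 := congrArg (coeff (Finsupp.cons (N - m.degree) m)) h0
    rw [coeff_map, coeff_zero] at h1
    simp only [F, coeff_sum, coeff_monomial] at h1
    rw [Finset.sum_eq_single m] at h1
    · rwa [if_pos rfl] at h1
    · intro m' _ hne
      rw [if_neg fun he => hne (Finsupp.cons_injective2 he).2]
    · exact fun h => absurd hm h
  · rw [notMem_support_iff.mp hm, map_zero]

theorem adjoin_ratio_eq_top :
    letI := (resMap (A := A)).toAlgebra
    IntermediateField.adjoin (ResidueField A)
      (Set.range fun j : ULift.{u} (Fin e) => residue (ring A) (ratio x hd hx j.down)) = ⊤ := by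
  let _ := (resMap (A := A)).toAlgebra
  set L := IntermediateField.adjoin (ResidueField A)
    (Set.range fun j : ULift.{u} (Fin e) => residue (ring A) (ratio x hd hx j.down))
  have hmem : ∀ F : MvPolynomial (Fin (e + 1)) A,
      residue (ring A) (aeval (Fin.cons 1 (ratio x hd hx)) F : ring A) ∈ L := by
    intro F
    rw [residue_aeval]
    induction (MvPolynomial.map (residue A) F) using MvPolynomial.induction_on with
    | C a => rw [eval₂_C]; exact L.algebraMap_mem a
    | add p q hp hq => rw [eval₂_add]; exact add_mem hp hq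
    | mul_X p i hp =>
      rw [eval₂_mul, eval₂_X]
      refine mul_mem hp ?_
      induction i using Fin.cases with
      | zero => rw [Fin.cons_zero, map_one]; exact one_mem L
      | succ j => rw [Fin.cons_succ]; exact IntermediateField.subset_adjoin _ _ ⟨⟨j⟩, rfl⟩
  refine eq_top_iff.mpr fun r _ => ?_
  obtain ⟨z, rfl⟩ := residue_surjective r
  obtain ⟨n, a, b, ha, hb, hb', he⟩ := z.2
  rw [← hx] at ha hb
  obtain ⟨F, hF, rfl⟩ := (Ideal.mem_span_pow_iff_exists_isHomogeneous x _).1 ha
  obtain ⟨G, hG, rfl⟩ := (Ideal.mem_span_pow_iff_exists_isHomogeneous x _).1 hb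
  have hGu := (isUnit_eval_ratio_iff x hd hx hG).mpr hb'
  have hn : algebraMap A (ring A) (x 0 ^ n) ≠ 0 := fun h =>
    algebraMap_ne_zero (pow_notMem (x_mem x hx 0) (x_zero_notMem x hd hx) n) (congrArg Subtype.val h)
  have hz : z * (aeval (Fin.cons 1 (ratio x hd hx)) G : ring A) =
      aeval (Fin.cons 1 (ratio x hd hx)) F := by
    refine mul_right_cancel₀ hn ?_
    rw [mul_assoc, mul_eval_ratio x hd hx hG, mul_eval_ratio x hd hx hF]
    exact Subtype.ext he
  have h1 := congrArg (residue (ring A)) hz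
  rw [map_mul] at h1
  rw [eq_div_of_mul_eq ((residue_ne_zero_iff_isUnit _).mpr hGu) h1]
  exact div_mem (hmem F) (hmem G)

end Residue

end GrothLib.OrdVal
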